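import Groth.Prelude.Def_EtShriek2
import Groth.Prelude.Def_EtBase
import Groth.Agent.EtStalk.Sheaf
import Mathlib

/-!
The stalk of an extension by zero along an etale morphism is the sum of the stalks at the lifts.
-/

set_option autoImplicit false
universe u

open CategoryTheory CategoryTheory.Limits AlgebraicGeometry Opposite

set_option backward.isDefEq.respectTransparency false

namespace Groth.Agent.EtShriekStalk

variable {U X : Scheme.{u}} (j : U ⟶ X) [Etale j] [EtShriek.JCont j] {Ω : Type u} [Field Ω] [IsSepClosed Ω]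
  (ξ : Spec (CommRingCat.of Ω) ⟶ X)

/-- lifts of the geometric point -/
abbrev Lifts : Type u := {u : Spec (CommRingCat.of Ω) ⟶ U // u ≫ j = ξ}

variable {j ξ}

/-- a point of a `U`-scheme as a point of an `X`-scheme -/
noncomputable def push (u : Lifts j ξ) {W : U.Etale} (v : Over.mk u.1 ⟶ (Scheme.Etale.forget U).obj W) :
    Over.mk ξ ⟶ (Scheme.Etale.forget X).obj ((EtShriek.compEtale j).obj W) :=
  Over.homMk v.left (by
    change v.left ≫ W.hom ≫ j = ξ
    exact (Category.assoc _ _ _).symm.trans ((congrArg (· ≫ j) (Over.w v)).trans u.2))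

variable (j ξ)

variable (F : EtCoh.Ab U)

/-- the map of stalks at a lift -/
noncomputable def incl (u : Lifts j ξ) :
    (EtCoh.stalk u.1).obj F ⟶ (EtCoh.stalk ξ).obj ((EtShriek.extZero j).obj F) :=
  (Scheme.pointSmallEtale u.1).presheafFiberDesc
    (fun W v => ((EtShriek.extZeroAdj j).unit.app F).hom.app (op W) ≫
      (Scheme.pointSmallEtale ξ).toPresheafFiber ((EtShriek.compEtale j).obj W) (push u v)
        ((EtShriek.extZero j).obj F).obj)
    (fun {W W'} m v => by
      have h1 := ((EtShriek.extZeroAdj j).unit.app F).hom.naturality m.op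
      have h2 := GrothendieckTopology.Point.toPresheafFiber_w (Scheme.pointSmallEtale ξ)
        ((EtShriek.compEtale j).map m) (push u v) ((EtShriek.extZero j).obj F).obj
      rw [← Category.assoc]
      erw [h1]
      rw [Category.assoc]
      refine congrArg (_ ≫ ·) ?_
      exact h2)

theorem incl_germ (u : Lifts j ξ) (W : U.Etale) (v : Over.mk u.1 ⟶ (Scheme.Etale.forget U).obj W) :
    (Scheme.pointSmallEtale u.1).toPresheafFiber W v F.obj ≫ incl j ξ F u =
      ((EtShriek.extZeroAdj j).unit.app F).hom.app (op W) ≫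
        (Scheme.pointSmallEtale ξ).toPresheafFiber ((EtShriek.compEtale j).obj W) (push u v)
          ((EtShriek.extZero j).obj F).obj :=
  GrothendieckTopology.Point.toPresheafFiber_presheafFiberDesc (Φ := Scheme.pointSmallEtale u.1) (φ := _) (hφ := _) W v

theorem incl_natural {F G : EtCoh.Ab U} (m : F ⟶ G) (u : Lifts j ξ) :
    (EtCoh.stalk u.1).map m ≫ incl j ξ G u =
      incl j ξ F u ≫ (EtCoh.stalk ξ).map ((EtShriek.extZero j).map m) := by
  refine GrothendieckTopology.Point.presheafFiber_hom_ext _ fun W v => ?_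
  change (Scheme.pointSmallEtale u.1).toPresheafFiber W v F.obj ≫
      (Scheme.pointSmallEtale u.1).presheafFiber.map m.hom ≫ incl j ξ G u =
    (Scheme.pointSmallEtale u.1).toPresheafFiber W v F.obj ≫ incl j ξ F u ≫
      (Scheme.pointSmallEtale ξ).presheafFiber.map ((EtShriek.extZero j).map m).hom
  rw [GrothendieckTopology.Point.toPresheafFiber_naturality_assoc, incl_germ j ξ G u W v,
    reassoc_of% incl_germ j ξ F u W v, GrothendieckTopology.Point.toPresheafFiber_naturality]
  have h := congrArg (fun t : F ⟶ _ => t.hom.app (op W)) ((EtShriek.extZeroAdj j).unit.naturality m)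
  rw [← Category.assoc, ← Category.assoc]
  exact congrArg (· ≫ _) h

/-- a lift determined by a point of a `U`-scheme -/
noncomputable def liftOf (W : U.Etale)
    (v : Over.mk ξ ⟶ (Scheme.Etale.forget X).obj ((EtShriek.compEtale j).obj W)) : Lifts j ξ :=
  ⟨v.left ≫ W.hom, (Category.assoc _ _ _).trans (Over.w v)⟩

/-- maps out of the stalk in terms of skyscrapers -/
noncomputable def homEquiv (M : AddCommGrpCat.{u + 1}) :
    ((EtCoh.stalk ξ).obj ((EtShriek.extZero j).obj F) ⟶ M) ≃
      (F ⟶ (EtShriek.restrAlong j).obj ((Scheme.pointSmallEtale ξ).skyscraperSheafFunctor.obj M)) :=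
  (((Scheme.pointSmallEtale ξ).skyscraperSheafAdjunction (A := AddCommGrpCat.{u + 1})).homEquiv _ _).trans
    ((EtShriek.extZeroAdj j).homEquiv _ _)

set_option maxHeartbeats 800000 in
theorem homEquiv_app (M : AddCommGrpCat.{u + 1}) (φ : (EtCoh.stalk ξ).obj ((EtShriek.extZero j).obj F) ⟶ M)
    (W : U.Etale) (v : Over.mk ξ ⟶ (Scheme.Etale.forget X).obj ((EtShriek.compEtale j).obj W)) :
    (homEquiv j ξ F M φ).hom.app (op W) ≫
        Pi.π (fun _ : (Scheme.pointSmallEtale ξ).fiber.obj ((EtShriek.compEtale j).obj W) => M) v =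
      ((EtShriek.extZeroAdj j).unit.app F).hom.app (op W) ≫
        (Scheme.pointSmallEtale ξ).toPresheafFiber ((EtShriek.compEtale j).obj W) v
          ((EtShriek.extZero j).obj F).obj ≫ φ := by
  rw [homEquiv, Equiv.trans_apply, Adjunction.homEquiv_unit]
  change (((EtShriek.extZeroAdj j).unit.app F).hom.app (op W) ≫ _) ≫ _ = _
  rw [Category.assoc]
  refine congrArg (_ ≫ ·) ?_
  change ((((Scheme.pointSmallEtale ξ).skyscraperSheafAdjunction (A := AddCommGrpCat.{u + 1})).homEquiv _ _) φ).hom.app (op ((EtShriek.compEtale j).obj W)) ≫ _ = _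
  erw [GrothendieckTopology.Point.skyscraperSheafAdjunction_homEquiv_apply_hom]
  exact GrothendieckTopology.Point.skyscraperPresheafHomEquiv_app_π _ _ _ _

theorem hom_ext {M : AddCommGrpCat.{u + 1}} {φ φ' : (EtCoh.stalk ξ).obj ((EtShriek.extZero j).obj F) ⟶ M}
    (h : ∀ u, incl j ξ F u ≫ φ = incl j ξ F u ≫ φ') : φ = φ' := by
  apply (homEquiv j ξ F M).injective
  refine Sheaf.hom_ext (NatTrans.ext (funext fun W => ?_))
  apply Pi.hom_ext
  intro v
  let v' : Over.mk ξ ⟶ (Scheme.Etale.forget X).obj ((EtShriek.compEtale j).obj W.unop) := v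
  refine (homEquiv_app j ξ F M φ W.unop v').trans (Eq.trans ?_ (homEquiv_app j ξ F M φ' W.unop v').symm)
  let u := liftOf j ξ W.unop v'
  let w : Over.mk u.1 ⟶ (Scheme.Etale.forget U).obj W.unop := Over.homMk v'.left rfl
  have hw : push u w = v' := Over.OverMorphism.ext rfl
  have e := congrArg ((Scheme.pointSmallEtale u.1).toPresheafFiber W.unop w F.obj ≫ ·) (h u)
  simp only [← Category.assoc] at e
  rw [incl_germ, hw] at e
  simpa only [Category.assoc] using e

theorem exists_desc {M : AddCommGrpCat.{u + 1}} (m : ∀ u : Lifts j ξ, (EtCoh.stalk u.1).obj F ⟶ M) :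
    ∃ φ : (EtCoh.stalk ξ).obj ((EtShriek.extZero j).obj F) ⟶ M, ∀ u, incl j ξ F u ≫ φ = m u := by
  have hg : ∀ (W : U.Etale) (v : Over.mk ξ ⟶ (Scheme.Etale.forget X).obj ((EtShriek.compEtale j).obj W)),
      ∃ c : F.obj.obj (op W) ⟶ M, ∀ (u : Lifts j ξ) (w : Over.mk u.1 ⟶ (Scheme.Etale.forget U).obj W),
        push u w = v → (Scheme.pointSmallEtale u.1).toPresheafFiber W w F.obj ≫ m u = c := by
    intro W v
    refine ⟨(Scheme.pointSmallEtale (liftOf j ξ W v).1).toPresheafFiber W (Over.homMk v.left rfl) F.obj ≫ m _, ?_⟩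
    intro u w hw
    subst hw
    have gen : ∀ (u' : Lifts j ξ) (w' : Over.mk u'.1 ⟶ (Scheme.Etale.forget U).obj W), u = u' →
        w.left = w'.left →
        (Scheme.pointSmallEtale u.1).toPresheafFiber W w F.obj ≫ m u =
          (Scheme.pointSmallEtale u'.1).toPresheafFiber W w' F.obj ≫ m u' := by
      rintro u' w' rfl hl
      rw [Over.OverMorphism.ext hl]
    exact gen _ _ (Subtype.ext (Over.w w).symm) rfl
  choose c hc using hg
  let g : F ⟶ (EtShriek.restrAlong j).obj ((Scheme.pointSmallEtale ξ).skyscraperSheafFunctor.obj M) :=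
    ⟨{ app := fun W => Pi.lift (fun v => c W.unop v)
       naturality := fun {W W'} a => by
        apply Pi.hom_ext
        intro v
        let v' : Over.mk ξ ⟶ (Scheme.Etale.forget X).obj ((EtShriek.compEtale j).obj W'.unop) := v
        let u := liftOf j ξ W'.unop v'
        let w : Over.mk u.1 ⟶ (Scheme.Etale.forget U).obj W'.unop := Over.homMk v'.left rfl
        have h1 := hc W'.unop v' u w (Over.OverMorphism.ext rfl)
        let v₂ : Over.mk ξ ⟶ (Scheme.Etale.forget X).obj ((EtShriek.compEtale j).obj W.unop) :=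
          v' ≫ (Scheme.Etale.forget X).map ((EtShriek.compEtale j).map a.unop)
        have h2 := hc W.unop v₂ u (w ≫ (Scheme.Etale.forget U).map a.unop) (Over.OverMorphism.ext rfl)
        rw [Category.assoc, Pi.lift_π]
        change F.obj.map a ≫ c W'.unop v' = Pi.lift (fun v => c W.unop v) ≫ Pi.map' _ (fun _ => 𝟙 M) ≫ Pi.π _ v
        erw [Pi.map'_comp_π, Category.comp_id, Pi.lift_π]
        change _ = c W.unop v₂
        rw [← h1, ← h2, ← Category.assoc]
        refine congrArg (· ≫ m u) ?_
        exact GrothendieckTopology.Point.toPresheafFiber_w (Scheme.pointSmallEtale u.1) a.unop w F.obj }⟩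
  refine ⟨(homEquiv j ξ F M).symm g, fun u => ?_⟩
  refine GrothendieckTopology.Point.presheafFiber_hom_ext _ fun W v => ?_
  let v' : Over.mk u.1 ⟶ (Scheme.Etale.forget U).obj W := v
  rw [← Category.assoc]
  erw [incl_germ j ξ F u W v']
  rw [Category.assoc, ← homEquiv_app, Equiv.apply_symm_apply]
  change Pi.lift (fun v => c W v) ≫ Pi.π (fun _ => M) (push u v') = _
  rw [Pi.lift_π]
  exact (hc W _ u v' rfl).symm

/-- The stalk of an extension by zero is the coproduct of the stalks at the lifts. -/
noncomputable def isColimit :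
    IsColimit (Cofan.mk ((EtCoh.stalk ξ).obj ((EtShriek.extZero j).obj F)) (incl j ξ F)) :=
  mkCofanColimit _ (fun s => (exists_desc j ξ F (fun u => s.inj u)).choose)
    (fun s u => (exists_desc j ξ F (fun u => s.inj u)).choose_spec u)
    (fun s φ h => hom_ext j ξ F fun u => (h u).trans ((exists_desc j ξ F (fun u => s.inj u)).choose_spec u).symm)

noncomputable def stalkExtZeroIso :
    (EtCoh.stalk ξ).obj ((EtShriek.extZero j).obj F) ≅ ∐ fun u : Lifts j ξ => (EtCoh.stalk u.1).obj F :=
  (isColimit j ξ F).coconePointUniqueUpToIso (coproductIsCoproduct _)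

@[reassoc]
theorem ι_stalkExtZeroIso_inv (u : Lifts j ξ) :
    Sigma.ι (fun u : Lifts j ξ => (EtCoh.stalk u.1).obj F) u ≫ (stalkExtZeroIso j ξ F).inv = incl j ξ F u :=
  (isColimit j ξ F).comp_coconePointUniqueUpToIso_inv (coproductIsCoproduct _) ⟨u⟩

theorem preservesMono {F G : EtCoh.Ab U} (m : F ⟶ G) [Mono m] : Mono ((EtShriek.extZero j).map m) := by
  refine (Groth.Agent.EtStalk.mono_iff _).mpr fun Ω _ _ ξ => ?_
  have hmono : ∀ u : Lifts j ξ, Mono ((EtCoh.stalk u.1).map m) := fun u =>
    (AddCommGrpCat.mono_iff_injective _).mpr ((Groth.Agent.EtStalk.mono_iff m).mp inferInstance Ω u.1)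
  have key : (EtCoh.stalk ξ).map ((EtShriek.extZero j).map m) =
      (stalkExtZeroIso j ξ F).hom ≫ Limits.Sigma.map (fun u : Lifts j ξ => (EtCoh.stalk u.1).map m) ≫
        (stalkExtZeroIso j ξ G).inv := by
    rw [← Iso.inv_comp_eq]
    refine Sigma.hom_ext _ _ fun u => ?_
    rw [ι_stalkExtZeroIso_inv_assoc, Sigma.ι_map_assoc, ι_stalkExtZeroIso_inv, incl_natural]
  have : AB4OfSize.{u} AddCommGrpCat.{u + 1} := AB4.of_AB5 _
  have : Mono (Limits.Sigma.map (fun u : Lifts j ξ => (EtCoh.stalk u.1).map m)) :=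
    haveI : Mono (Discrete.natTrans (F := Discrete.functor fun u : Lifts j ξ => (EtCoh.stalk u.1).obj F)
        (G := Discrete.functor fun u : Lifts j ξ => (EtCoh.stalk u.1).obj G) fun x => (EtCoh.stalk x.as.1).map m) :=
      haveI : ∀ x, Mono ((Discrete.natTrans (F := Discrete.functor fun u : Lifts j ξ => (EtCoh.stalk u.1).obj F)
        (G := Discrete.functor fun u : Lifts j ξ => (EtCoh.stalk u.1).obj G) fun x => (EtCoh.stalk x.as.1).map m).app x) :=
        fun x => hmono x.as
      NatTrans.mono_of_mono_app _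
    (colim (J := Discrete (Lifts j ξ)) (C := AddCommGrpCat.{u + 1})).map_mono _
  rw [← AddCommGrpCat.mono_iff_injective, key]
  infer_instance

theorem preservesFiniteLimits : PreservesFiniteLimits (EtShriek.extZero j) := by
  have : PreservesFiniteColimits (EtShriek.extZero j) :=
    haveI : (EtShriek.extZero j).IsLeftAdjoint := (EtShriek.extZeroAdj j).isLeftAdjoint
    inferInstance
  have : (EtShriek.extZero j).PreservesMonomorphisms := ⟨fun m _ => preservesMono j m⟩
  have : (EtShriek.restrAlong j).Additive := { }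
  have : (EtShriek.extZero j).Additive := (EtShriek.extZeroAdj j).left_adjoint_additive
  have := (EtShriek.extZero j).preservesHomology_of_preservesMonos_and_cokernels
  exact Functor.preservesFiniteLimits_of_preservesHomology _

end Groth.Agent.EtShriekStalk
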