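import Groth.Agent.EtShriekStalk.Basic
import Groth.Agent.EtPushStalk.OpenImm
import Groth.Agent.EtPushStalk.Unit
import Groth.Agent.EtIntegral.Push
import Groth.Agent.EtaleSections.Basic
import Mathlib

/-!
The canonical map from extension by zero to direct image along a separated etale morphism.
-/

set_option autoImplicit false
universe u

open CategoryTheory CategoryTheory.Limits AlgebraicGeometry Opposite

set_option backward.isDefEq.respectTransparency false

namespace Groth.Agent.EtShriekStalk

variable {U X : Scheme.{u}} (j : U ⟶ X) [Etale j] [IsSeparated j]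

/-- `W ×_X U` over `U` -/
noncomputable abbrev sq (W : U.Etale) : U.Etale := (EtCoh.bc j).obj ((EtShriek.compEtale j).obj W)

/-- the graph -/
noncomputable def graph (W : U.Etale) : W ⟶ sq j W :=
  MorphismProperty.Over.homMk
    (pullback.lift (𝟙 W.left) W.hom (Category.id_comp _) : W.left ⟶ pullback (W.hom ≫ j) j)
    (pullback.lift_snd _ _ _)

noncomputable def graph' (W : U.Etale) : W.left ⟶ pullback (W.hom ≫ j) j := (graph j W).left

theorem graph'_fst (W : U.Etale) : graph' j W ≫ pullback.fst (W.hom ≫ j) j = 𝟙 _ := pullback.lift_fst _ _ _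

theorem graph'_snd (W : U.Etale) : graph' j W ≫ pullback.snd (W.hom ≫ j) j = W.hom := pullback.lift_snd _ _ _

instance isClosedImmersion_graph (W : U.Etale) : IsClosedImmersion (graph' j W) := by
  have : IsClosedImmersion (graph' j W ≫ pullback.fst (W.hom ≫ j) j) := by rw [graph'_fst]; infer_instance
  exact IsClosedImmersion.of_comp _ (pullback.fst (W.hom ≫ j) j)

instance isOpenImmersion_graph (W : U.Etale) : IsOpenImmersion (graph' j W) :=
  Groth.Agent.EtaleSections.isOpenImmersion_section (pullback.fst (W.hom ≫ j) j) (graph' j W) (graph'_fst j W)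

/-- the complement of the graph -/
noncomputable def compl (W : U.Etale) : (pullback (W.hom ≫ j) j).Opens :=
  ⟨(Set.range (graph' j W))ᶜ, (graph' j W).isClosedEmbedding.isClosed_range.isOpen_compl⟩

/-- the complement as an etale `U`-scheme -/
noncomputable def complObj (W : U.Etale) : U.Etale :=
  haveI := (sq j W).prop
  haveI : Etale (pullback.snd (W.hom ≫ j) j) := (sq j W).prop
  Scheme.Etale.mk ((compl j W).ι ≫ pullback.snd (W.hom ≫ j) j)

noncomputable def complIncl (W : U.Etale) : complObj j W ⟶ sq j W :=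
  MorphismProperty.Over.homMk ((compl j W).ι : (complObj j W).left ⟶ (sq j W).left) rfl

theorem exists_ext (F : EtCoh.Ab U) (W : U.Etale) (t : EtCoh.sect F W) :
    ∃ s : EtCoh.sect F (sq j W), F.obj.map (graph j W).op s = t ∧ F.obj.map (complIncl j W).op s = 0 := by
  let Z : ULift.{u} Bool → U.Etale := fun b => Bool.rec (complObj j W) W b.down
  let π : ∀ b, Z b ⟶ sq j W := fun b => match b with
    | ⟨true⟩ => graph j W
    | ⟨false⟩ => complIncl j W
  have : ∀ b, Mono (π b).left := by
    rintro ⟨_ | _⟩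
    · exact inferInstanceAs (Mono (compl j W).ι)
    · exact inferInstanceAs (Mono (graph' j W))
  let val : ∀ b, EtCoh.sect F (Z b) := fun b => match b with
    | ⟨true⟩ => t
    | ⟨false⟩ => (0 : EtCoh.sect F (complObj j W))
  obtain ⟨s, hs⟩ := Groth.Agent.EtIntegral.exists_amalg_disjoint F Z π (by
      rintro ⟨_ | _⟩ ⟨_ | _⟩ hne x y hxy
      · exact hne rfl
      · let x' : (compl j W).toScheme := x
        exact x'.2 ⟨y, hxy.symm⟩
      · let y' : (compl j W).toScheme := y
        exact y'.2 ⟨x, hxy⟩
      · exact hne rfl)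
    (fun p => by
      by_cases hp : p ∈ Set.range (graph j W).left
      · exact ⟨⟨true⟩, hp⟩
      · exact ⟨⟨false⟩, (⟨p, hp⟩ : compl j W), rfl⟩) val
  exact ⟨s, hs ⟨true⟩, hs ⟨false⟩⟩

theorem ext_graph (F : EtCoh.Ab U) (W : U.Etale) (s s' : EtCoh.sect F (sq j W))
    (h1 : F.obj.map (graph j W).op s = F.obj.map (graph j W).op s')
    (h2 : F.obj.map (complIncl j W).op s = F.obj.map (complIncl j W).op s') : s = s' := by
  let Z : ULift.{u} Bool → U.Etale := fun b => Bool.rec (complObj j W) W b.down
  let π : ∀ b, Z b ⟶ sq j W := fun b => match b with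
    | ⟨true⟩ => graph j W
    | ⟨false⟩ => complIncl j W
  refine Groth.Agent.EtIntegral.sect_ext F Z π (fun p => ?_) s s' ?_
  · by_cases hp : p ∈ Set.range (graph j W).left
    · exact ⟨⟨true⟩, hp⟩
    · exact ⟨⟨false⟩, (⟨p, hp⟩ : compl j W), rfl⟩
  · rintro ⟨_ | _⟩
    · exact h2
    · exact h1

/-- the map `F(W) ⟶ F(W ×_X U)` extending by zero off the graph -/
noncomputable def extMap (F : EtCoh.Ab U) (W : U.Etale) : EtCoh.sect F W →+ EtCoh.sect F (sq j W) where
  toFun t := (exists_ext j F W t).choose
  map_zero' := by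
    obtain ⟨h1, h2⟩ := (exists_ext j F W 0).choose_spec
    exact ext_graph j F W _ _ (h1.trans (map_zero _).symm) (h2.trans (map_zero _).symm)
  map_add' t t' := by
    obtain ⟨h1, h2⟩ := (exists_ext j F W (t + t')).choose_spec
    obtain ⟨a1, a2⟩ := (exists_ext j F W t).choose_spec
    obtain ⟨b1, b2⟩ := (exists_ext j F W t').choose_spec
    exact ext_graph j F W _ _ (h1.trans (by rw [map_add, a1, b1])) (h2.trans (by rw [map_add, a2, b2, add_zero]))

theorem extMap_graph (F : EtCoh.Ab U) (W : U.Etale) (t : EtCoh.sect F W) :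
    F.obj.map (graph j W).op (extMap j F W t) = t := (exists_ext j F W t).choose_spec.1

theorem extMap_compl (F : EtCoh.Ab U) (W : U.Etale) (t : EtCoh.sect F W) :
    F.obj.map (complIncl j W).op (extMap j F W t) = 0 := (exists_ext j F W t).choose_spec.2

/-- functoriality of `sq` -/
noncomputable abbrev sqMap {W W' : U.Etale} (m : W' ⟶ W) : sq j W' ⟶ sq j W :=
  (EtCoh.bc j).map ((EtShriek.compEtale j).map m)

theorem sqMap_fst {W W' : U.Etale} (m : W' ⟶ W) :
    (sqMap j m).left ≫ pullback.fst (W.hom ≫ j) j = pullback.fst (W'.hom ≫ j) j ≫ m.left :=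
  (EtCoh.isPullback_bc_map j ((EtShriek.compEtale j).map m)).w

theorem sqMap_snd {W W' : U.Etale} (m : W' ⟶ W) :
    (sqMap j m).left ≫ pullback.snd (W.hom ≫ j) j = pullback.snd (W'.hom ≫ j) j :=
  MorphismProperty.Over.w (sqMap j m)

theorem graph_natural {W W' : U.Etale} (m : W' ⟶ W) : graph j W' ≫ sqMap j m = m ≫ graph j W := by
  refine MorphismProperty.Over.Hom.ext ?_
  change graph' j W' ≫ (sqMap j m).left = m.left ≫ graph' j W
  apply pullback.hom_ext
  · rw [Category.assoc, Category.assoc]
    refine (congrArg (graph' j W' ≫ ·) (sqMap_fst j m)).trans ?_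
    refine (Category.assoc _ _ _).symm.trans ((congrArg (· ≫ m.left) (graph'_fst j W')).trans ?_)
    exact (Category.id_comp _).trans ((Category.comp_id _).symm.trans (congrArg (m.left ≫ ·) (graph'_fst j W).symm))
  · rw [Category.assoc, Category.assoc]
    refine (congrArg (graph' j W' ≫ ·) (sqMap_snd j m)).trans ((graph'_snd j W').trans ?_)
    exact (MorphismProperty.Over.w m).symm.trans (congrArg (m.left ≫ ·) (graph'_snd j W).symm)

theorem exists_compl_natural {W W' : U.Etale} (m : W' ⟶ W) :
    ∃ c : complObj j W' ⟶ complObj j W, c ≫ complIncl j W = complIncl j W' ≫ sqMap j m := by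
  let k : (compl j W').toScheme ⟶ pullback (W.hom ≫ j) j := (compl j W').ι ≫ (sqMap j m).left
  have hr : Set.range k ⊆ Set.range (compl j W).ι := by
    rintro _ ⟨z, rfl⟩
    rw [Scheme.Opens.range_ι]
    rintro ⟨w, hw⟩
    apply z.2
    let S : pullback (W'.hom ≫ j) j ⟶ pullback (W.hom ≫ j) j := (sqMap j m).left
    obtain ⟨q, hq, -⟩ := Scheme.Pullback.exists_preimage_pullback (f := S) (g := graph' j W) z.1 w hw.symm
    let a := pullback.fst S (graph' j W)
    let b := pullback.snd S (graph' j W)
    have hb : b = a ≫ pullback.fst (W'.hom ≫ j) j ≫ m.left := by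
      rw [← sqMap_fst j m, ← Category.assoc, pullback.condition, Category.assoc, graph'_fst, Category.comp_id]
    have ha : (a ≫ pullback.fst (W'.hom ≫ j) j) ≫ graph' j W' = a := by
      apply pullback.hom_ext
      · erw [Category.assoc, graph'_fst, Category.comp_id]
      · rw [Category.assoc, graph'_snd, ← sqMap_snd j m, ← Category.assoc a, pullback.condition,
          Category.assoc (pullback.snd S (graph' j W)), graph'_snd]
        change (a ≫ _) ≫ _ = b ≫ W.hom
        rw [hb, Category.assoc, Category.assoc, Category.assoc, MorphismProperty.Over.w]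
    exact ⟨(a ≫ pullback.fst (W'.hom ≫ j) j) q, by rw [← hq]; exact congr($ha q)⟩
  refine ⟨MorphismProperty.Over.homMk (IsOpenImmersion.lift (compl j W).ι k hr :
      (complObj j W').left ⟶ (complObj j W).left) ?_, MorphismProperty.Over.Hom.ext (IsOpenImmersion.lift_fac _ _ _)⟩
  change IsOpenImmersion.lift (compl j W).ι k hr ≫ (compl j W).ι ≫ pullback.snd (W.hom ≫ j) j =
    (compl j W').ι ≫ pullback.snd (W'.hom ≫ j) j
  rw [IsOpenImmersion.lift_fac_assoc, Category.assoc, sqMap_snd]

theorem extMap_natural (F : EtCoh.Ab U) {W W' : U.Etale} (m : W' ⟶ W) (t : EtCoh.sect F W) :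
    extMap j F W' (F.obj.map m.op t) = F.obj.map (sqMap j m).op (extMap j F W t) := by
  obtain ⟨c, hc⟩ := exists_compl_natural j m
  refine ext_graph j F W' _ _ ?_ ?_
  · rw [extMap_graph]
    symm
    rw [← ConcreteCategory.comp_apply, ← Functor.map_comp, ← op_comp, graph_natural, op_comp, Functor.map_comp,
      ConcreteCategory.comp_apply, extMap_graph]
  · rw [extMap_compl]
    symm
    rw [← ConcreteCategory.comp_apply, ← Functor.map_comp, ← op_comp, ← hc, op_comp, Functor.map_comp,
      ConcreteCategory.comp_apply, extMap_compl, map_zero]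

theorem extMap_hom {F G : EtCoh.Ab U} (a : F ⟶ G) (W : U.Etale) (t : EtCoh.sect F W) :
    extMap j G W (a.hom.app (op W) t) = a.hom.app (op (sq j W)) (extMap j F W t) := by
  refine ext_graph j G W _ _ ?_ ?_
  · rw [extMap_graph, ← NatTrans.naturality_apply, extMap_graph]
  · rw [extMap_compl, ← NatTrans.naturality_apply, extMap_compl, map_zero]

variable [EtShriek.JCont j]

/-- `F ⟶ j^{-1} j_* F` -/
noncomputable def graphMap : 𝟭 (EtCoh.Ab U) ⟶ EtCoh.push j ⋙ EtShriek.restrAlong j where
  app F :=
    ⟨{ app := fun W => AddCommGrpCat.ofHom (extMap j F W.unop)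
       naturality := fun {W W'} m => by
        ext t
        exact extMap_natural j F m.unop t }⟩
  naturality {F G} a := by
    refine Sheaf.hom_ext (NatTrans.ext (funext fun W => ?_))
    ext t
    exact extMap_hom j a W.unop t

/-- `j_! ⟶ j_*` -/
noncomputable def toPush : EtShriek.extZero j ⟶ EtCoh.push j where
  app F := ((EtShriek.extZeroAdj j).homEquiv _ _).symm ((graphMap j).app F)
  naturality {F G} a := by
    rw [← Adjunction.homEquiv_naturality_left_symm, ← Adjunction.homEquiv_naturality_right_symm]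
    exact congrArg _ ((graphMap j).naturality a)

theorem unit_toPush (F : EtCoh.Ab U) (W : U.Etale) (t : EtCoh.sect F W) :
    ((toPush j).app F).hom.app (op ((EtShriek.compEtale j).obj W))
      (((EtShriek.extZeroAdj j).unit.app F).hom.app (op W) t) = extMap j F W t := by
  have h := ((EtShriek.extZeroAdj j).homEquiv_unit (f := (toPush j).app F)).symm
  simp only [toPush, Equiv.apply_symm_apply] at h
  exact ConcreteCategory.congr_hom (congrArg (fun m : F ⟶ (EtShriek.restrAlong j).obj ((EtCoh.push j).obj F) =>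
    m.hom.app (op W)) h) t

variable {Ω : Type u} [Field Ω] [IsSepClosed Ω] (ξ : Spec (CommRingCat.of Ω) ⟶ X)

/-- the component of a stalk of a direct image at a lift -/
noncomputable def toLift (F : EtCoh.Ab U) (u' : Lifts j ξ) :
    (EtCoh.stalk ξ).obj ((EtCoh.push j).obj F) ⟶ (EtCoh.stalk u'.1).obj F :=
  eqToHom (congrArg (fun η => (EtCoh.stalk η).obj ((EtCoh.push j).obj F)) u'.2.symm) ≫
    Groth.Agent.EtPushStalk.stalkPushHom j u'.1 F

theorem incl_toPush_lift (F : EtCoh.Ab U) (u : Lifts j ξ)
    (z : (EtCoh.stalk u.1).obj F) :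
    toLift j ξ F u ((EtCoh.stalk ξ).map ((toPush j).app F) (incl j ξ F u z)) = z := by
  obtain ⟨u, rfl⟩ := u
  obtain ⟨W, v₀, t, rfl⟩ := (Scheme.pointSmallEtale u).toPresheafFiber_jointly_surjective (P := F.obj) z
  let v : Over.mk u ⟶ (Scheme.Etale.forget U).obj W := v₀
  rw [toLift, eqToHom_refl, Category.id_comp]
  erw [ConcreteCategory.congr_hom (incl_germ j (u ≫ j) F ⟨u, rfl⟩ W v) t]
  erw [GrothendieckTopology.Point.toPresheafFiber_naturality_apply (Scheme.pointSmallEtale (u ≫ j))
    ((toPush j).app F).hom]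
  erw [unit_toPush, Groth.Agent.EtPushStalk.stalkPushHom_germ u F]
  refine Eq.trans ?_ ((congrArg _ (extMap_graph j F W t)))
  refine Eq.trans ?_ (GrothendieckTopology.Point.toPresheafFiber_w_apply (Scheme.pointSmallEtale u) (graph j W) v F.obj _).symm
  congr 3
  refine Over.OverMorphism.ext ?_
  change pullback.lift v.left u _ = v.left ≫ graph' j W
  apply pullback.hom_ext
  · rw [pullback.lift_fst, Category.assoc, graph'_fst]
    exact (Category.comp_id _).symm
  · rw [pullback.lift_snd, Category.assoc, graph'_snd]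
    exact (Over.w v).symm

theorem incl_toPush_ne (F : EtCoh.Ab U) (u u' : Lifts j ξ) (h : u ≠ u')
    (z : (EtCoh.stalk u.1).obj F) :
    toLift j ξ F u' ((EtCoh.stalk ξ).map ((toPush j).app F) (incl j ξ F u z)) = 0 := by
  obtain ⟨u', rfl⟩ := u'
  obtain ⟨W, v₀, t, rfl⟩ := (Scheme.pointSmallEtale u.1).toPresheafFiber_jointly_surjective (P := F.obj) z
  let v : Over.mk u.1 ⟶ (Scheme.Etale.forget U).obj W := v₀
  rw [toLift, eqToHom_refl, Category.id_comp]
  erw [ConcreteCategory.congr_hom (incl_germ j (u' ≫ j) F u W v) t]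
  erw [GrothendieckTopology.Point.toPresheafFiber_naturality_apply (Scheme.pointSmallEtale (u' ≫ j))
    ((toPush j).app F).hom]
  erw [unit_toPush, Groth.Agent.EtPushStalk.stalkPushHom_germ u' F]
  refine (Groth.Agent.EtPushStalk.germ_eq_zero_iff F u' (sq j W) _ _).mpr ?_
  intro hsupp
  let p : Spec (CommRingCat.of Ω) ⟶ pullback (W.hom ≫ j) j :=
    pullback.lift v.left u' ((Category.assoc _ _ _).symm.trans ((congrArg (· ≫ j) (Over.w v)).trans u.2))
  have hp : p (default : Spec (CommRingCat.of Ω)) ∈ Set.range (graph' j W) := by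
    by_contra hne
    refine ((Groth.Agent.EtSect.map_eq_zero_iff F (extMap j F W t) (complIncl j W)).mp (extMap_compl j F W t)) ?_ hsupp
    exact ⟨(⟨_, hne⟩ : compl j W), rfl⟩
  have hr : Set.range p ⊆ Set.range (graph' j W) := by
    rintro _ ⟨c, rfl⟩
    rwa [Subsingleton.elim (α := Spec (CommRingCat.of Ω)) c default]
  have hq := IsOpenImmersion.lift_fac (graph' j W) p hr
  have h1 : IsOpenImmersion.lift (graph' j W) p hr = v.left := by
    have := congrArg (· ≫ pullback.fst (W.hom ≫ j) j) hq
    simp only [Category.assoc] at this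
    erw [graph'_fst, Category.comp_id, pullback.lift_fst] at this
    exact this
  apply h
  apply Subtype.ext
  show u.1 = u'
  have := congrArg (· ≫ pullback.snd (W.hom ≫ j) j) hq
  simp only [Category.assoc, graph'_snd, p, pullback.lift_snd, h1] at this
  exact (Over.w v).symm.trans this

theorem injective_of_components {I : Type u} (A : I → AddCommGrpCat.{u + 1}) {S T : AddCommGrpCat.{u + 1}}
    (ι : ∀ i, A i ⟶ S) (hι : IsColimit (Cofan.mk S ι)) (φ : S ⟶ T) (π : ∀ i, T ⟶ A i)
    (hsame : ∀ i (z : A i), π i (φ (ι i z)) = z) (hne : ∀ i k, i ≠ k → ∀ z : A i, π k (φ (ι i z)) = 0) :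
    Function.Injective φ := by
  classical
  let d : DirectSum I (fun i => A i) →+ S := DirectSum.toAddMonoid fun i => (ι i).hom
  have hd : ∀ i (z : A i), d (DirectSum.of (fun i => A i) i z) = ι i z := fun i z =>
    DirectSum.toAddMonoid_of (fun i => (ι i).hom) i z
  let c : S ⟶ AddCommGrpCat.of (DirectSum I (fun i => A i)) :=
    hι.desc (Cofan.mk _ fun i => AddCommGrpCat.ofHom (DirectSum.of (fun i => A i) i))
  have hdc : c ≫ AddCommGrpCat.ofHom d = 𝟙 _ := by
    refine hι.hom_ext fun ⟨i⟩ => ?_
    rw [← Category.assoc, IsColimit.fac]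
    ext z
    exact hd i z
  have hcomp : ∀ k (x : DirectSum I (fun i => A i)), π k (φ (d x)) = x k := by
    intro k x
    induction x using DirectSum.induction_on with
    | zero => rw [map_zero, map_zero, map_zero]; rfl
    | add x y hx hy => rw [map_add, map_add, map_add, hx, hy, DirectSum.add_apply]
    | of i z =>
      rw [hd]
      by_cases h : i = k
      · subst h
        rw [DirectSum.of_eq_same, hsame]
      · rw [DirectSum.of_eq_of_ne _ _ _ (Ne.symm h), hne i k h]
  rw [injective_iff_map_eq_zero]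
  intro y hy
  have hy' : y = d (c y) := (ConcreteCategory.congr_hom hdc y).symm
  have hc0 : c y = 0 := by
    refine DFinsupp.ext fun k => (hcomp k (c y)).symm.trans ?_
    rw [← hy', hy, map_zero]
    rfl
  rw [hy', hc0, map_zero]

theorem mono_toPush (F : EtCoh.Ab U) : Mono ((toPush j).app F) :=
  (Groth.Agent.EtStalk.mono_iff _).mpr fun _Ω _ _ ξ =>
    injective_of_components (fun u : Lifts j ξ => (EtCoh.stalk u.1).obj F) (incl j ξ F) (isColimit j ξ F)
      ((EtCoh.stalk ξ).map ((toPush j).app F)) (toLift j ξ F)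
      (incl_toPush_lift j ξ F) (fun u u' h => incl_toPush_ne j ξ F u u' h)

end Groth.Agent.EtShriekStalk
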